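import Groth.Prelude.Def_BigSite
import Mathlib.Algebra.Homology.DerivedCategory.Ext.ExactSequences
import Mathlib.CategoryTheory.Preadditive.Injective.Basic
import Mathlib.CategoryTheory.Sites.LocallySurjective
import Mathlib.CategoryTheory.Sites.EpiMono

/-!
First cohomology of abelian sheaves through an embedding into an injective sheaf.
-/

set_option autoImplicit false
universe u v w w'

open CategoryTheory CategoryTheory.Limits Opposite

noncomputable section

namespace Groth.Agent.Hilb90F24

variable {C : Type u} [Category.{v} C] {J : GrothendieckTopology C}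
  [HasSheafify J AddCommGrpCat.{w}] [HasExt.{w'} (Sheaf J AddCommGrpCat.{w})] {T : C}

/-- If `H¹` vanishes, sections over a terminal object lift. -/
theorem surjective_of_H1 {S : ShortComplex (Sheaf J AddCommGrpCat.{w})} (hS : S.ShortExact) (hT : IsTerminal T)
    [Subsingleton (Sheaf.H S.X₁ 1)] : Function.Surjective (S.g.hom.app (op T)) := by
  intro c
  obtain ⟨y, hy⟩ := Abelian.Ext.covariant_sequence_exact₃ _ hS ((Sheaf.H.equiv₀ S.X₃ hT).symm c) rfl
    (Subsingleton.elim _ _)
  refine ⟨Sheaf.H.equiv₀ S.X₂ hT y, ?_⟩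
  rw [Sheaf.H.equiv₀_naturality hT S.g y, Sheaf.H.map_apply, hy, AddEquiv.apply_symm_apply]

/-- Vanishing of `H¹` from the lifting of sections to an injective sheaf. -/
theorem H1_of_surjective {S : ShortComplex (Sheaf J AddCommGrpCat.{w})} (hS : S.ShortExact) (hT : IsTerminal T)
    [Injective S.X₂] (h : Function.Surjective (S.g.hom.app (op T))) : Subsingleton (Sheaf.H S.X₁ 1) := by
  refine subsingleton_of_forall_eq 0 fun x => ?_
  obtain ⟨y, rfl⟩ := Abelian.Ext.covariant_sequence_exact₁ _ hS x (Abelian.Ext.eq_zero_of_injective _) rfl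
  obtain ⟨i, hi⟩ := h (Sheaf.H.equiv₀ S.X₃ hT y)
  have hy : y = ((Sheaf.H.equiv₀ S.X₂ hT).symm i).comp (Abelian.Ext.mk₀ S.g) (zero_add 0) := by
    refine (Sheaf.H.equiv₀ S.X₃ hT).injective ?_
    rw [← hi]
    rw [← Sheaf.H.map_apply, ← Sheaf.H.equiv₀_naturality hT S.g, AddEquiv.apply_symm_apply]
  rw [hy, Abelian.Ext.comp_assoc_of_second_deg_zero, ShortComplex.ShortExact.comp_extClass, Abelian.Ext.comp_zero]

end Groth.Agent.Hilb90F24
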