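import Groth.Prelude.Def_BigSite
import Groth.Agent.FinSub96.Pts
import Mathlib.RingTheory.ZariskisMainTheorem
import Mathlib.RingTheory.Jacobson.Ring
import Mathlib.RingTheory.RingHom.FinitePresentation

/-!
Covering sieves of the big fppf site of a field are split by finite field extensions.
-/

set_option autoImplicit false
universe u

open CategoryTheory CategoryTheory.Limits AlgebraicGeometry Opposite

noncomputable section

namespace Groth.Agent.Hilb90F24

open Groth.Agent.FinSub96

/-- A covering sieve contains a nonempty morphism of finite presentation, after any base change. -/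
theorem exists_lfp_mem {X : Scheme.{u}} {R : Sieve X} (hR : R ∈ Scheme.fppfPrecoverage.toGrothendieck X) :
    ∀ {Y : Scheme.{u}} (f : Y ⟶ X), Nonempty Y →
      ∃ (W : Scheme.{u}) (g : W ⟶ Y), Nonempty W ∧ LocallyOfFinitePresentation g ∧ R.arrows (g ≫ f) := by
  change Scheme.fppfPrecoverage.Saturate X R at hR
  induction hR with
  | of X S hS =>
    intro Y f ⟨y⟩
    obtain ⟨hsurj, hP⟩ := hS
    obtain ⟨Z, g, hg, z, hz⟩ := (Presieve.mem_comap_jointlySurjectivePrecoverage_iff _).1 hsurj (f y)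
    have : LocallyOfFinitePresentation g := (hP hg).2
    obtain ⟨p, -⟩ := Scheme.Pullback.exists_preimage_pullback y z hz.symm
    exact ⟨pullback f g, pullback.fst f g, ⟨p⟩, inferInstance,
      ⟨Z, pullback.snd f g, g, hg, pullback.condition.symm⟩⟩
  | top X =>
    intro Y f hY
    exact ⟨Y, 𝟙 Y, hY, inferInstance, trivial⟩
  | pullback X S _ Y' h ih =>
    intro Y f hY
    obtain ⟨W, g, h1, h2, h3⟩ := ih (f ≫ h) hY
    exact ⟨W, g, h1, h2, by simpa using h3⟩
  | transitive X S R _ _ ih1 ih2 =>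
    intro Y f hY
    obtain ⟨W, g, h1, h2, h3⟩ := ih1 f hY
    obtain ⟨W', g', h1', h2', h3'⟩ := ih2 h3 (𝟙 W) h1
    exact ⟨W', g' ≫ g, h1', inferInstance, by simpa using h3'⟩

/-- A covering sieve of the final object of the fppf site of a field contains a finite field extension. -/
theorem exists_field_mem (K : Type u) [Field K]
    {R : Sieve (Over.mk (𝟙 (Spec (CommRingCat.of K))))}
    (hR : R ∈ QuotSh.J Scheme.fppfPrecoverage (Spec (CommRingCat.of K)) (Over.mk (𝟙 (Spec (CommRingCat.of K))))) :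
    ∃ (L : Type u) (_ : Field L) (_ : Algebra K L) (_ : FiniteDimensional K L),
      ∀ t : sp (K := K) L ⟶ Over.mk (𝟙 (Spec (CommRingCat.of K))), R.arrows t := by
  obtain ⟨W, f, hW, hf, hmem⟩ :=
    exists_lfp_mem ((GrothendieckTopology.mem_over_iff _ _).1 hR) (𝟙 _) (inferInstanceAs (Nonempty ↥(Spec (CommRingCat.of K))))
  obtain ⟨w⟩ := hW
  obtain ⟨_, ⟨U, hU, rfl⟩, hw, -⟩ := W.isBasis_affineOpens.exists_subset_of_mem_open
    (Set.mem_univ w) isOpen_univ
  haveI : Nonempty U := ⟨⟨w, hw⟩⟩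
  obtain ⟨φ, hφ⟩ := Spec.map_surjective (hU.fromSpec ≫ f ≫ 𝟙 _)
  algebraize [φ.hom]
  haveI : LocallyOfFinitePresentation (Spec.map φ) := by rw [hφ]; infer_instance
  have hfp : φ.hom.FinitePresentation :=
    (HasRingHomProperty.Spec_iff (P := @LocallyOfFinitePresentation)).1 inferInstance
  haveI : Algebra.FiniteType K Γ(W, U) :=
    (RingHom.finiteType_algebraMap).1 (RingHom.FiniteType.of_finitePresentation hfp)
  haveI : Nontrivial Γ(W, U) := inferInstance
  obtain ⟨m, hm⟩ := Ideal.exists_maximal Γ(W, U)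
  letI := Ideal.Quotient.field m
  haveI : Algebra.FiniteType K (Γ(W, U) ⧸ m) :=
    Algebra.FiniteType.of_surjective (Ideal.Quotient.mkₐ K m) Ideal.Quotient.mk_surjective
  refine ⟨Γ(W, U) ⧸ m, inferInstance, inferInstance, finite_of_finite_type_of_isJacobsonRing K _, fun t => ?_⟩
  have hs := (Sieve.overEquiv_iff _ _).1 hmem
  have hi : Spec.map (CommRingCat.ofHom (Ideal.Quotient.mk m)) ≫ hU.fromSpec ≫ f ≫ 𝟙 _
      = (sp (K := K) (Γ(W, U) ⧸ m)).hom := by
    rw [← hφ, ← Spec.map_comp]
    rfl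
  have := R.downward_closed hs (Over.homMk (U := sp (K := K) (Γ(W, U) ⧸ m))
    (Spec.map (CommRingCat.ofHom (Ideal.Quotient.mk m)) ≫ hU.fromSpec) (by simpa using hi))
  convert this using 1
  exact Over.mkIdTerminal.hom_ext _ _

end Groth.Agent.Hilb90F24
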