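import Mathlib.RingTheory.Flat.Basic
import Mathlib.LinearAlgebra.Basis.VectorSpace
import Mathlib.RingTheory.TensorProduct.Maps
import Mathlib.RingTheory.Flat.FaithfullyFlat.Basic

/-!
Multiplicative cocycles on `L ⊗ L` for an extension of fields are coboundaries (faithfully flat descent of lines).
-/

set_option autoImplicit false
universe u

open TensorProduct Algebra.TensorProduct

noncomputable section

namespace Groth.Agent.Hilb90F24

variable (K L : Type u) [Field K] [Field L] [Algebra K L]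

/-- `a ⊗ b ↦ a ⊗ b ⊗ 1`. -/
def e12 : L ⊗[K] L →ₐ[K] L ⊗[K] (L ⊗[K] L) := Algebra.TensorProduct.map (AlgHom.id K L) includeLeft

/-- `a ⊗ b ↦ a ⊗ 1 ⊗ b`. -/
def e13 : L ⊗[K] L →ₐ[K] L ⊗[K] (L ⊗[K] L) := Algebra.TensorProduct.map (AlgHom.id K L) includeRight

/-- `a ⊗ b ↦ 1 ⊗ a ⊗ b`. -/
def e23 : L ⊗[K] L →ₐ[K] L ⊗[K] (L ⊗[K] L) := includeRight

/-- A cocycle unit is the quotient of the two pullbacks of a nonzero element. -/
theorem exists_eq_coboundary (u : (L ⊗[K] L)ˣ)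
    (hu : e13 K L u = e12 K L u * e23 K L u) :
    ∃ x : L, x ≠ 0 ∧ (u : L ⊗[K] L) * (1 ⊗ₜ x) = x ⊗ₜ 1 := by
  let δ : L →ₗ[K] L ⊗[K] L :=
    (LinearMap.mulLeft K (u : L ⊗[K] L)).comp (includeRight (R := K) (A := L) (B := L)).toLinearMap -
      (includeLeft (R := K) (S := K) (A := L) (B := L)).toLinearMap
  have hδ : δ.lTensor L = (LinearMap.mulLeft K (e23 K L u)).comp (e13 K L).toLinearMap - (e12 K L).toLinearMap := by
    ext a x
    simp [δ, e12, e13, e23, TensorProduct.tmul_sub, Algebra.TensorProduct.tmul_mul_tmul]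
  have hv : δ.lTensor L ((u⁻¹ : (L ⊗[K] L)ˣ) : L ⊗[K] L) = 0 := by
    rw [hδ, LinearMap.sub_apply, LinearMap.comp_apply, LinearMap.mulLeft_apply, sub_eq_zero]
    show e23 K L u * e13 K L ((u⁻¹ : (L ⊗[K] L)ˣ) : L ⊗[K] L) = e12 K L ((u⁻¹ : (L ⊗[K] L)ˣ) : L ⊗[K] L)
    refine (IsUnit.mul_left_inj (u.isUnit.map (e13 K L))).1 ?_
    rw [mul_assoc, ← map_mul, Units.inv_mul, map_one, mul_one, hu, ← mul_assoc, ← map_mul,
      Units.inv_mul, map_one, one_mul]
  obtain ⟨w, hw⟩ :=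
    (Module.Flat.lTensor_exact L (LinearMap.exact_subtype_ker_map δ) _).1 hv
  have hne : (LinearMap.ker δ) ≠ ⊥ := by
    intro h
    have h0 : (LinearMap.ker δ).subtype = 0 := LinearMap.ext fun x => by
      simpa using (Submodule.eq_bot_iff _).1 h x x.2
    rw [h0, LinearMap.lTensor_zero, LinearMap.zero_apply] at hw
    exact (Units.ne_zero u⁻¹) hw.symm
  obtain ⟨x, hx, hx0⟩ := Submodule.exists_mem_ne_zero_of_ne_bot hne
  refine ⟨x, hx0, ?_⟩
  simpa [δ, sub_eq_zero] using hx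

end Groth.Agent.Hilb90F24
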