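import Groth.Agent.Hilb90F24.Basic
import Groth.Agent.Hilb90F24.Cover
import Groth.Agent.Hilb90F24.Descent
import Groth.Agent.RedPts82.Points
import Groth.Prelude.Def_CGrpSh2
import Mathlib.Algebra.Homology.ShortComplex.Ab
import Mathlib.AlgebraicGeometry.Morphisms.Flat

/-!
`H¹_fppf(K, 𝔾_m) = 0` for a field `K`.
-/

set_option autoImplicit false
universe u

open CategoryTheory CategoryTheory.Limits AlgebraicGeometry Opposite TensorProduct
open Algebra.TensorProduct (includeLeft includeRight)

noncomputable section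

namespace Groth.Agent.Hilb90F24

open Groth.Agent.FinSub96

variable {K : Type u} [Field K]

variable (K) in
/-- The multiplicative group on the big fppf site of `K`. -/
abbrev GmS := CGrpSh2.Gm Scheme.fppfPrecoverage (Spec (CommRingCat.of K))

/-- The unit attached to a section of the multiplicative group over an affine scheme. -/
def val (R : Type u) [CommRing R] [Algebra K R] (t : BigSite.sect _ (GmS K) (sp (K := K) R)) : R :=
  (AlgEquiv.ofBijective (toSec (K := K) R) toSec_bijective).symm (Red.gmFn t.down.toMul)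

variable {R R' : Type u} [CommRing R] [Algebra K R] [CommRing R'] [Algebra K R']

theorem toSec_val (t : BigSite.sect _ (GmS K) (sp (K := K) R)) : toSec R (val R t) = Red.gmFn t.down.toMul :=
  (AlgEquiv.ofBijective (toSec (K := K) R) toSec_bijective).apply_symm_apply _

theorem val_add (t t' : BigSite.sect _ (GmS K) (sp (K := K) R)) : val R (t + t') = val R t * val R t' := by
  apply (toSec_bijective (K := K) (R := R)).injective
  rw [map_mul, toSec_val, toSec_val, toSec_val]
  exact Groth.Agent.RedPts82.gmFn_mul _ _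

theorem val_injective {t t' : BigSite.sect _ (GmS K) (sp (K := K) R)} (h : val R t = val R t') : t = t' := by
  have h' := congrArg (toSec (K := K) R) h
  rw [toSec_val, toSec_val] at h'
  exact ULift.ext _ _ (congrArg Additive.ofMul (Groth.Agent.RedPts82.gmFn_injective h'))

theorem isUnit_val (t : BigSite.sect _ (GmS K) (sp (K := K) R)) : IsUnit (val R t) :=
  (Groth.Agent.RedPts82.gmFn_isUnit t.down.toMul).map _

theorem exists_val_eq {a : R} (ha : IsUnit a) : ∃ t : BigSite.sect _ (GmS K) (sp (K := K) R), val R t = a := by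
  obtain ⟨t, ht⟩ := Groth.Agent.RedPts82.gmFn_surjective (S := Spec (CommRingCat.of K))
    (X := sp (K := K) R) (ha.map (toSec (K := K) R))
  exact ⟨ULift.up (Additive.ofMul t), (toSec_bijective (K := K) (R := R)).injective ((toSec_val _).trans ht)⟩

theorem val_map (ψ : R →ₐ[K] R') (t : BigSite.sect _ (GmS K) (sp (K := K) R)) :
    val R' ((GmS K).obj.map (spMap ψ).op t) = ψ (val R t) := by
  apply (toSec_bijective (K := K) (R := R')).injective
  rw [toSec_val, ← secMap_spMap, toSec_val]
  exact Groth.Agent.RedPts82.gmFn_comp _ _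

/-- The structure morphism to the final object of the big site. -/
def toTop (T : Over (Spec (CommRingCat.of K))) : T ⟶ Over.mk (𝟙 (Spec (CommRingCat.of K))) :=
  Over.mkIdTerminal.from T

variable (L : Type u) [Field L] [Algebra K L]

theorem singleton_mem [FiniteDimensional K L] :
    Sieve.generate (Presieve.singleton (toTop (sp (K := K) L))) ∈
      QuotSh.J Scheme.fppfPrecoverage (Spec (CommRingCat.of K)) (Over.mk (𝟙 (Spec (CommRingCat.of K)))) := by
  rw [GrothendieckTopology.mem_over_iff]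
  have hl : (toTop (sp (K := K) L)).left = Spec.map (CommRingCat.ofHom (algebraMap K L)) := by
    simpa using Over.w (toTop (sp (K := K) L))
  refine GrothendieckTopology.superset_covering _ ?_ (Precoverage.Saturate.of _
    (Presieve.singleton (toTop (sp (K := K) L)).left) ?_)
  · rintro Z g ⟨W, a, b, hb, rfl⟩
    obtain ⟨⟩ := hb
    rw [Sieve.overEquiv_iff]
    exact ⟨_, Over.homMk a (by simp [hl]), _, Presieve.singleton.mk, by ext; rfl⟩
  · refine (Scheme.singleton_mem_precoverage_iff _ _).2 ⟨fun x => ?_, ?_, ?_⟩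
    · obtain ⟨y⟩ := (inferInstance : Nonempty ↥(Spec (CommRingCat.of L)))
      haveI : Subsingleton ↥(Spec (CommRingCat.of K)) := inferInstanceAs (Subsingleton (PrimeSpectrum K))
      exact ⟨y, @Subsingleton.elim ↥(Spec (CommRingCat.of K)) _ _ _⟩
    · rw [hl, HasRingHomProperty.Spec_iff (P := @Flat)]
      show (algebraMap K L).Flat
      exact RingHom.flat_algebraMap_iff.2 inferInstance
    · rw [hl, HasRingHomProperty.Spec_iff (P := @LocallyOfFinitePresentation)]
      show (algebraMap K L).FinitePresentation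
      exact RingHom.finitePresentation_algebraMap.2 (Algebra.FinitePresentation.of_finiteType.1 inferInstance)

/-- Amalgamation along a finite field extension. -/
theorem exists_amalg [FiniteDimensional K L] (F : BigSite.Ab Scheme.fppfPrecoverage (Spec (CommRingCat.of K)))
    (x : F.obj.obj (op (sp (K := K) L)))
    (hx : ∀ (Z : Over (Spec (CommRingCat.of K))) (g₁ g₂ : Z ⟶ sp (K := K) L),
      F.obj.map g₁.op x = F.obj.map g₂.op x) :
    ∃! y, F.obj.map (toTop (sp (K := K) L)).op y = x := by
  have h : Presieve.IsSheafFor (F.obj ⋙ forget AddCommGrpCat) (Presieve.singleton (toTop (sp (K := K) L))) := by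
    rw [Presieve.isSheafFor_iff_generate]
    exact ((isSheaf_iff_isSheaf_of_type _ _).1
      ((sheafCompose _ (forget AddCommGrpCat.{u + 1})).obj F).property) _ (singleton_mem L)
  exact Presieve.isSheafFor_singleton.1 h x fun {Z} p₁ p₂ _ => hx Z p₁ p₂

/-- A morphism into `sp L` pair factors through `sp (L ⊗ L)`. -/
theorem exists_lift {Z : Over (Spec (CommRingCat.of K))} (g₁ g₂ : Z ⟶ sp (K := K) L) :
    ∃ h : Z ⟶ sp (K := K) (L ⊗[K] L), h ≫ spMap includeLeft = g₁ ∧ h ≫ spMap includeRight = g₂ := by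
  refine ⟨ofHom (Algebra.TensorProduct.productMap (pt g₁) (pt g₂)), pt_injective ?_, pt_injective ?_⟩
  · rw [pt_comp_spMap, pt_ofHom, Algebra.TensorProduct.productMap_left]
  · rw [pt_comp_spMap, pt_ofHom, Algebra.TensorProduct.productMap_right]

/-- `H¹_fppf(K, 𝔾_m) = 0`. -/
theorem H1_Gm (K : Type u) [Field K] :
    Subsingleton (BigSite.H Scheme.fppfPrecoverage (Spec (CommRingCat.of K))
      (CGrpSh2.Gm Scheme.fppfPrecoverage (Spec (CommRingCat.of K))) 1) := by
  let G := CGrpSh2.Gm Scheme.fppfPrecoverage (Spec (CommRingCat.of K))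
  let ι := Injective.ι G
  let S : ShortComplex _ := ShortComplex.mk ι (cokernel.π ι) (cokernel.condition ι)
  have hS : S.ShortExact :=
    { exact := ShortComplex.exact_cokernel ι }
  have hex : ∀ (U : Over (Spec (CommRingCat.of K))) (a : S.X₂.obj.obj (op U)),
      S.g.hom.app (op U) a = 0 → ∃ b, S.f.hom.app (op U) b = a := by
    intro U
    let Φ := sheafToPresheaf (QuotSh.J Scheme.fppfPrecoverage (Spec (CommRingCat.of K))) AddCommGrpCat.{u + 1} ⋙
      (evaluation _ _).obj (op U)
    have h := hS.exact.map_of_mono_of_preservesKernel Φ hS.mono_f inferInstance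
    exact (ShortComplex.ab_exact_iff (S.map Φ)).1 h
  have hinj : ∀ (U : Over (Spec (CommRingCat.of K))), Function.Injective (S.f.hom.app (op U)) := by
    intro U
    haveI : Mono S.f := hS.mono_f
    haveI : Mono S.f.hom := inferInstanceAs (Mono ((sheafToPresheaf _ _).map S.f))
    exact (AddCommGrpCat.mono_iff_injective _).1 inferInstance
  refine H1_of_surjective hS Over.mkIdTerminal fun c => ?_
  haveI : Epi S.g := hS.epi_g
  haveI : Sheaf.IsLocallySurjective S.g := (Sheaf.isLocallySurjective_iff_epi' AddCommGrpCat.{u + 1} S.g).2 inferInstance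
  obtain ⟨L, _, _, _, hL⟩ := exists_field_mem K (Presheaf.imageSieve_mem
    (QuotSh.J Scheme.fppfPrecoverage (Spec (CommRingCat.of K))) S.g.hom c)
  obtain ⟨s, hs⟩ := hL (toTop _)
  have nat : ∀ {A B : BigSite.Ab Scheme.fppfPrecoverage (Spec (CommRingCat.of K))} (φ : A ⟶ B)
      {U V : Over (Spec (CommRingCat.of K))} (p : V ⟶ U) (z : A.obj.obj (op U)),
      φ.hom.app (op V) (A.obj.map p.op z) = B.obj.map p.op (φ.hom.app (op U) z) :=
    fun φ _ _ p z => NatTrans.naturality_apply φ.hom p.op z
  have mapc : ∀ (A : BigSite.Ab Scheme.fppfPrecoverage (Spec (CommRingCat.of K)))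
      {U V W : Over (Spec (CommRingCat.of K))} (p : W ⟶ V) (q : V ⟶ U) (z : A.obj.obj (op U)),
      A.obj.map p.op (A.obj.map q.op z) = A.obj.map (p ≫ q).op z := by
    intro A U V W p q z
    rw [op_comp, Functor.map_comp]
    rfl
  let i₁ : L →ₐ[K] L ⊗[K] L := includeLeft
  let i₂ : L →ₐ[K] L ⊗[K] L := includeRight
  let d := S.X₂.obj.map (spMap i₁).op s - S.X₂.obj.map (spMap i₂).op s
  obtain ⟨t, ht⟩ := hex _ d (by
    rw [map_sub, nat, nat, hs, mapc, mapc, Over.mkIdTerminal.hom_ext (spMap i₁ ≫ toTop _) (spMap i₂ ≫ toTop _),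
      sub_self])
  have he : ∀ (e : L ⊗[K] L →ₐ[K] L ⊗[K] (L ⊗[K] L)) (q₁ q₂ : L →ₐ[K] L ⊗[K] (L ⊗[K] L)),
      e.comp i₁ = q₁ → e.comp i₂ = q₂ → S.f.hom.app _ (G.obj.map (spMap e).op t) =
        S.X₂.obj.map (spMap q₁).op s - S.X₂.obj.map (spMap q₂).op s := by
    intro e q₁ q₂ h₁ h₂
    have hc : ∀ (q : L →ₐ[K] L ⊗[K] L), spMap e ≫ spMap q = spMap (e.comp q) := fun q =>
      pt_injective (by rw [pt_comp_spMap, pt_spMap, pt_spMap]; rfl)
    rw [nat, ht, map_sub, mapc, mapc, hc, hc, h₁, h₂]
  have hcoc : val _ (G.obj.map (spMap (e13 K L)).op t) =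
      val _ (G.obj.map (spMap (e12 K L)).op t + G.obj.map (spMap (e23 K L)).op t) := by
    congr 1
    apply hinj
    rw [map_add,
      he (e12 K L) includeLeft ((includeRight : L ⊗[K] L →ₐ[K] _).comp i₁) (by ext; simp [e12, i₁])
        (by ext; simp [e12, i₁, i₂]),
      he (e13 K L) includeLeft ((includeRight : L ⊗[K] L →ₐ[K] _).comp i₂) (by ext; simp [e13, i₁])
        (by ext; simp [e13, i₁, i₂]),
      he (e23 K L) ((includeRight : L ⊗[K] L →ₐ[K] _).comp i₁) ((includeRight : L ⊗[K] L →ₐ[K] _).comp i₂) rfl rfl]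
    abel
  rw [val_add, val_map, val_map, val_map] at hcoc
  obtain ⟨x, hx0, hx⟩ := exists_eq_coboundary K L (isUnit_val t).unit hcoc
  obtain ⟨y, hy⟩ := exists_val_eq (K := K) (R := L) (IsUnit.mk0 x hx0)
  have hty : G.obj.map (spMap i₁).op y = t + G.obj.map (spMap i₂).op y := by
    apply val_injective
    rw [val_add, val_map, val_map, hy]
    exact hx.symm
  have hd : d = S.X₂.obj.map (spMap i₁).op (S.f.hom.app _ y) - S.X₂.obj.map (spMap i₂).op (S.f.hom.app _ y) := by
    rw [← nat, ← nat, hty, map_add, ht, add_sub_cancel_right]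
  obtain ⟨w, hw, -⟩ := exists_amalg L S.X₂ (s - S.f.hom.app _ y) fun Z g₁ g₂ => by
    obtain ⟨h, rfl, rfl⟩ := exists_lift L g₁ g₂
    rw [← mapc, ← mapc]
    congr 1
    rw [map_sub, map_sub]
    exact sub_eq_sub_iff_sub_eq_sub.1 hd
  refine ⟨w, ?_⟩
  obtain ⟨_, -, huniq⟩ := exists_amalg L S.X₃ (S.g.hom.app _ s) fun Z g₁ g₂ => by
    rw [hs, mapc, mapc, Over.mkIdTerminal.hom_ext (g₁ ≫ toTop _) (g₂ ≫ toTop _)]
  have hcond : S.g.hom.app (op (sp (K := K) L)) (S.f.hom.app _ y) = 0 := by
    show (S.f ≫ S.g).hom.app _ y = 0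
    rw [S.zero]
    rfl
  exact (huniq _ (by show _ = _; rw [← nat, hw, map_sub, hcond, sub_zero])).trans (huniq c hs.symm).symm

end Groth.Agent.Hilb90F24
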