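import Groth.Agent.Hilb90F24.Basic
import Groth.Prelude.Def_BigSite
import Mathlib.CategoryTheory.Adjunction.Limits
import Mathlib.CategoryTheory.Limits.Shapes.Terminal

/-!
`H¹` of a direct image on big sites vanishes with `H¹` upstairs.
-/

set_option autoImplicit false
universe u

open CategoryTheory CategoryTheory.Limits AlgebraicGeometry Opposite

noncomputable section

namespace Groth.Agent.Hilb90F24

theorem H1_pushBig {S T : Scheme.{u}} (f : T ⟶ S) (G : BigSite.Ab Scheme.fppfPrecoverage T)
    [h : Subsingleton (BigSite.H Scheme.fppfPrecoverage T G 1)] :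
    Subsingleton (BigSite.H Scheme.fppfPrecoverage S
      ((BigSite.pushBig Scheme.fppfPrecoverage f AddCommGrpCat.{u + 1}).obj G) 1) := by
  let ι := Injective.ι G
  let A : ShortComplex _ := ShortComplex.mk ι (cokernel.π ι) (cokernel.condition ι)
  have hA : A.ShortExact := { exact := ShortComplex.exact_cokernel ι }
  let F := BigSite.pushBig Scheme.fppfPrecoverage f AddCommGrpCat.{u + 1}
  have : PreservesLimitsOfSize.{0, 0} F := (BigSite.bigAdj Scheme.fppfPrecoverage f _).rightAdjoint_preservesLimits
  have : (BigSite.pullBig Scheme.fppfPrecoverage f AddCommGrpCat.{u + 1}).PreservesMonomorphisms :=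
    Functor.preservesMonomorphisms_of_adjunction (BigSite.shriekAbAdj Scheme.fppfPrecoverage f)
  have : Mono (F.map ι) := inferInstance
  let B : ShortComplex _ := ShortComplex.mk (F.map ι) (cokernel.π (F.map ι)) (cokernel.condition _)
  have hB : B.ShortExact := { exact := ShortComplex.exact_cokernel _ }
  have : Injective B.X₂ :=
    Injective.injective_of_adjoint (BigSite.bigAdj Scheme.fppfPrecoverage f _) (Injective.under G)
  let m : B.X₃ ⟶ F.obj A.X₃ := cokernel.desc (F.map ι) (F.map A.g) (by rw [← F.map_comp]; exact (congrArg F.map A.zero).trans (F.map_zero _ _))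
  have : Mono A.f := hA.mono_f
  have hm : Mono m :=
    (hA.exact.map_of_mono_of_preservesKernel F hA.mono_f inferInstance).mono_cokernelDesc
  refine H1_of_surjective hB Over.mkIdTerminal fun q => ?_
  have hT : IsTerminal ((Over.pullback f).obj (Over.mk (𝟙 S))) :=
    Over.mkIdTerminal.isTerminalObj (Over.pullback f)
  have : Subsingleton (Sheaf.H A.X₁ 1) := h
  obtain ⟨a, ha⟩ := surjective_of_H1 hA hT (m.hom.app (op (Over.mk (𝟙 S))) q)
  refine ⟨a, ?_⟩
  have hmm : Mono (m.hom.app (op (Over.mk (𝟙 S)))) := by
    have : Mono m.hom := inferInstanceAs (Mono ((sheafToPresheaf _ _).map m))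
    infer_instance
  refine (AddCommGrpCat.mono_iff_injective _).1 hmm ?_
  refine Eq.trans ?_ ha
  show (B.g ≫ m).hom.app _ a = _
  rw [cokernel.π_desc]
  rfl

end Groth.Agent.Hilb90F24
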